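import Mathlib

/-!
Finite free algebras are étale exactly when the trace form is unimodular.
-/

set_option autoImplicit false
set_option linter.style.haveILetI false
universe u
open TensorProduct

namespace Groth.Agent.TraceEt

section Closed

variable {K : Type u} [Field K] [IsAlgClosed K] {B : Type u} [CommRing B] [Algebra K B] [Module.Finite K B]

/-- A reduced finite algebra over an algebraically closed field is a product of copies of the field. -/
theorem exists_algEquiv_pi [IsReduced B] :
    ∃ (ι : Type u) (_ : Fintype ι), Nonempty (B ≃ₐ[K] (ι → K)) := by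
  haveI : IsArtinianRing B := isArtinian_of_tower K inferInstance
  haveI := Fintype.ofFinite (MaximalSpectrum B)
  letI : ∀ I : MaximalSpectrum B, Field (B ⧸ I.asIdeal) := fun I =>
    haveI := I.isMaximal; Ideal.Quotient.field _
  let e : ∀ I : MaximalSpectrum B, K ≃ₐ[K] (B ⧸ I.asIdeal) := fun I =>
    AlgEquiv.ofBijective (Algebra.ofId K (B ⧸ I.asIdeal)) IsAlgClosed.algebraMap_bijective_of_isIntegral
  exact ⟨MaximalSpectrum B, inferInstance,
    ⟨((IsArtinianRing.equivPi B).restrictScalars K).trans (AlgEquiv.piCongrRight fun I => (e I).symm)⟩⟩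

theorem trace_pi {ι : Type*} [Fintype ι] (F : Type*) [CommRing F] (x : ι → F) : Algebra.trace F (ι → F) x = ∑ i, x i := by
  classical
  rw [Algebra.trace_eq_matrix_trace (Pi.basisFun F ι), Matrix.trace]
  refine Finset.sum_congr rfl fun i _ => ?_
  rw [Matrix.diag_apply, Algebra.leftMulMatrix_eq_repr_mul, Pi.basisFun_repr, Pi.mul_apply, Pi.basisFun_apply,
    Pi.single_eq_same, mul_one]

theorem traceForm_injective_of_isReduced [IsReduced B] : Function.Injective (Algebra.traceForm K B) := by
  classical
  obtain ⟨ι, _, ⟨e⟩⟩ := exists_algEquiv_pi (K := K) (B := B)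
  refine (injective_iff_map_eq_zero _).2 fun x hx => e.injective ?_
  rw [map_zero]
  funext i
  have h := LinearMap.congr_fun hx (e.symm (Pi.single i 1))
  rw [Algebra.traceForm_apply, ← Algebra.trace_eq_of_algEquiv e, map_mul, AlgEquiv.apply_symm_apply, trace_pi,
    LinearMap.zero_apply, Finset.sum_eq_single i (fun j _ hj => by simp [hj]) (by simp)] at h
  simpa using h

omit [IsAlgClosed K] in
theorem isReduced_of_traceForm_injective (h : Function.Injective (Algebra.traceForm K B)) : IsReduced B := by
  refine ⟨fun x hx => h ?_⟩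
  rw [map_zero]
  refine LinearMap.ext fun y => ?_
  rw [Algebra.traceForm_apply, LinearMap.zero_apply]
  have hn : IsNilpotent (Algebra.lmul K B (x * y)) := (Commute.all x y |>.isNilpotent_mul_right hx).map _
  exact (LinearMap.isNilpotent_trace_of_isNilpotent hn).eq_zero

theorem etale_iff_isReduced : Algebra.Etale K B ↔ IsReduced B := by
  refine ⟨fun _ => Algebra.FormallyUnramified.isReduced_of_field K B, fun _ => ?_⟩
  obtain ⟨ι, _, ⟨e⟩⟩ := exists_algEquiv_pi (K := K) (B := B)
  exact Algebra.Etale.of_equiv e.symm

theorem etale_iff_traceForm_injective : Algebra.Etale K B ↔ Function.Injective (Algebra.traceForm K B) := by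
  rw [etale_iff_isReduced]
  exact ⟨fun _ => traceForm_injective_of_isReduced, isReduced_of_traceForm_injective⟩

end Closed

variable (A B : Type u) [CommRing A] [CommRing B] [Algebra A B] [Module.Finite A B] [Module.Free A B]

theorem trace_baseChange (L : Type u) [CommRing L] [Algebra A L] (b : B) :
    Algebra.trace L (L ⊗[A] B) ((1 : L) ⊗ₜ[A] b) = algebraMap A L (Algebra.trace A B b) := by
  rw [Algebra.trace_apply, Algebra.trace_apply, ← LinearMap.trace_baseChange]
  congr 1
  ext x
  simp

theorem toMatrix_traceForm {ι : Type*} [Fintype ι] [DecidableEq ι] (b : Module.Basis ι A B) :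
    LinearMap.toMatrix b b.dualBasis (Algebra.traceForm A B) =
      Matrix.of fun i j => Algebra.traceForm A B (b j) (b i) := by
  ext i j
  rw [LinearMap.toMatrix_apply, Module.Basis.dualBasis_repr, Matrix.of_apply]

theorem bijective_traceForm_iff {ι : Type*} [Fintype ι] [DecidableEq ι] (b : Module.Basis ι A B) :
    Function.Bijective (Algebra.traceForm A B) ↔
      IsUnit (Matrix.of fun i j => Algebra.traceForm A B (b j) (b i)).det := by
  rw [← toMatrix_traceForm]
  refine ⟨fun h => (LinearEquiv.ofBijective _ h).isUnit_det b b.dualBasis,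
    fun h => (LinearEquiv.ofIsUnitDet (f := Algebra.traceForm A B) (v := b) (v' := b.dualBasis) h).bijective⟩

/-- Over an algebraically closed base change the discriminant detects étaleness. -/
theorem etale_baseChange_iff {ι : Type*} [Fintype ι] [DecidableEq ι] (b : Module.Basis ι A B) (L : Type u) [Field L]
    [IsAlgClosed L] [Algebra A L] :
    Algebra.Etale L (L ⊗[A] B) ↔ algebraMap A L (Matrix.of fun i j => Algebra.traceForm A B (b j) (b i)).det ≠ 0 := by
  let bL := Algebra.TensorProduct.basis L b
  rw [etale_iff_traceForm_injective, ← isUnit_iff_ne_zero]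
  have hmat : (Matrix.of fun i j => Algebra.traceForm L (L ⊗[A] B) (bL j) (bL i)) =
      (algebraMap A L).mapMatrix (Matrix.of fun i j => Algebra.traceForm A B (b j) (b i)) := by
    ext i j
    simp [bL, Algebra.traceForm_apply, Algebra.TensorProduct.tmul_mul_tmul, trace_baseChange]
  rw [RingHom.map_det, ← hmat, ← bijective_traceForm_iff L (L ⊗[A] B) bL]
  refine ⟨fun h => ⟨h, ?_⟩, fun h => h.1⟩
  exact ((Algebra.traceForm L (L ⊗[A] B)).injective_iff_surjective_of_finrank_eq_finrank
    Subspace.dual_finrank_eq.symm).1 h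

theorem etale_iff_bijective : Algebra.Etale A B ↔ Function.Bijective (Algebra.traceForm A B) := by
  classical
  let b := Module.Free.chooseBasis A B
  rw [bijective_traceForm_iff A B b]
  constructor
  · intro hB
    by_contra hd
    obtain ⟨M, hM, hdM⟩ := exists_max_ideal_of_mem_nonunits hd
    letI := Ideal.Quotient.field M
    let L := AlgebraicClosure (A ⧸ M)
    exact (etale_baseChange_iff A B b L).1 inferInstance
      (show algebraMap (A ⧸ M) L (Ideal.Quotient.mk M _) = 0 by
        rw [Algebra.algebraMap_self, RingHom.id_apply, Ideal.Quotient.eq_zero_iff_mem.2 hdM, map_zero])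
  · intro hd
    haveI : Module.FinitePresentation A B := Module.finitePresentation_of_projective A B
    haveI : Algebra.FinitePresentation A B := Algebra.FinitePresentation.of_finitePresentation A B
    haveI : Module.Finite A Ω[B⁄A] := Module.Finite.trans B _
    suffices h : Module.annihilator A Ω[B⁄A] = ⊤ by
      haveI : Algebra.FormallyUnramified A B := ⟨subsingleton_iff.2 fun x y => by
        have h1 : (1 : A) ∈ Module.annihilator A Ω[B⁄A] := h ▸ Submodule.mem_top
        rw [Module.mem_annihilator] at h1
        rw [← one_smul A x, ← one_smul A y, h1, h1]⟩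
      exact Algebra.Etale.of_formallyUnramified_of_flat
    by_contra hne
    obtain ⟨M, hM, hle⟩ := Ideal.exists_le_maximal _ hne
    letI := Ideal.Quotient.field M
    let L := AlgebraicClosure (A ⧸ M)
    haveI : Algebra.Etale L (L ⊗[A] B) := (etale_baseChange_iff A B b L).2 (hd.map _).ne_zero
    letI : Algebra B (L ⊗[A] B) := Algebra.TensorProduct.rightAlgebra
    have hsub : Subsingleton (L ⊗[A] Ω[B⁄A]) :=
      (KaehlerDifferential.tensorKaehlerEquivBase A L B (L ⊗[A] B)).toEquiv.subsingleton
    have hsub' : Subsingleton ((A ⧸ M) ⊗[A] Ω[B⁄A]) := by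
      haveI : Subsingleton (L ⊗[A ⧸ M] ((A ⧸ M) ⊗[A] Ω[B⁄A])) :=
        (AlgebraTensorModule.cancelBaseChange A (A ⧸ M) L L Ω[B⁄A]).toEquiv.subsingleton
      exact Module.FaithfullyFlat.lTensor_reflects_triviality (A ⧸ M) L _
    have hsub'' : Subsingleton (Ω[B⁄A] ⧸ (M • ⊤ : Submodule A Ω[B⁄A])) :=
      (quotTensorEquivQuotSMul Ω[B⁄A] M).symm.toEquiv.subsingleton
    rw [Submodule.Quotient.subsingleton_iff] at hsub''
    obtain ⟨r, hr1, hr2⟩ := Submodule.exists_sub_one_mem_and_smul_eq_zero_of_fg_of_le_smul M _ Module.Finite.fg_top hsub''.ge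
    have : r ∈ M := hle (Module.mem_annihilator.2 fun x => hr2 x Submodule.mem_top)
    exact hM.ne_top ((Ideal.eq_top_iff_one _).2 (by simpa using sub_mem this hr1))

theorem trace_surjective [Algebra.Etale A B] [Module.FaithfullyFlat A B] :
    Function.Surjective (Algebra.trace A B) := by
  classical
  rw [← LinearMap.range_eq_top]
  by_contra hne
  obtain ⟨M, hM, hle⟩ := Ideal.exists_le_maximal _ hne
  letI := Ideal.Quotient.field M
  let L := AlgebraicClosure (A ⧸ M)
  haveI : Nontrivial (L ⊗[A] B) := inferInstance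
  haveI := Algebra.FormallyUnramified.isReduced_of_field L (L ⊗[A] B)
  obtain ⟨ι, _, ⟨e⟩⟩ := exists_algEquiv_pi (K := L) (B := L ⊗[A] B)
  have h0 : ∀ z, Algebra.trace L (L ⊗[A] B) z = 0 := fun z => by
    induction z using TensorProduct.induction_on with
    | zero => simp
    | tmul l x =>
      rw [show (l ⊗ₜ[A] x : L ⊗[A] B) = l • ((1 : L) ⊗ₜ[A] x) by rw [TensorProduct.smul_tmul', smul_eq_mul, mul_one],
        map_smul, trace_baseChange]
      show l • algebraMap (A ⧸ M) L (Ideal.Quotient.mk M (Algebra.trace A B x)) = 0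
      rw [Ideal.Quotient.eq_zero_iff_mem.2 (hle (LinearMap.mem_range_self _ x)), map_zero, smul_zero]
    | add a b ha hb => rw [map_add, ha, hb, add_zero]
  rcases isEmpty_or_nonempty ι with hι | ⟨⟨i⟩⟩
  · exact not_subsingleton (L ⊗[A] B) e.toEquiv.subsingleton
  · have h := h0 (e.symm (Pi.single i 1))
    rw [← Algebra.trace_eq_of_algEquiv e, AlgEquiv.apply_symm_apply, trace_pi, Finset.sum_pi_single'] at h
    simp at h

end Groth.Agent.TraceEt
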